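import Mathlib
import Cfsg.Agent.SF4.Rt
import Cfsg.Prelude.Def_ChevF4
import Cfsg.Prelude.Def_ChevAutomorphisms

/-! SF4-Bas1T: comparison of the root tables with the Chevalley datum -/

set_option autoImplicit false
set_option linter.unusedSectionVars false

namespace Cfsg.Agent.SF4

open Cfsg Cfsg.Lie

namespace Bas1

theorem t_comm : ∀ r s : Rt, s ≠ r → s ≠ ng r →
    ((chevF4.commTerms r s).filter fun c => c.2.1 % 2 = 1).map (·.1) = (cm1 r s).map Fin.val := by
  decide +kernel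

theorem t_neg : ∀ r : Rt, chevF4.neg r = (ng r).val := by decide +kernel

theorem t_refl : ∀ r s : Rt, ∀ i : Fin 4,
    chevF4.cartan i (rf r s) = chevF4.cartan i s - chevF4.pairing r s * chevF4.cartan i r := by decide +kernel

theorem t_c : ∀ r : Rt,
    c1 r = 2 * chevF4.cartan 0 r + 3 * chevF4.cartan 1 r + 4 * chevF4.cartan 2 r + 2 * chevF4.cartan 3 r ∧
    c2 r = 3 * chevF4.cartan 0 r + 6 * chevF4.cartan 1 r + 8 * chevF4.cartan 2 r + 4 * chevF4.cartan 3 r ∧
    c3 r = 2 * chevF4.cartan 0 r + 4 * chevF4.cartan 1 r + 6 * chevF4.cartan 2 r + 3 * chevF4.cartan 3 r ∧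
    c4 r = chevF4.cartan 0 r + 2 * chevF4.cartan 1 r + 3 * chevF4.cartan 2 r + 2 * chevF4.cartan 3 r := by
  decide +kernel

theorem t_self : ∀ r, cm1 r r = [] := by decide +kernel
theorem t_sub : ∀ r s, cm1 r s = [] ∨ cm1 r s = cm2 r s := by decide +kernel
theorem t_nz : ∀ r s, cm1 r s ≠ [] → s ≠ ng r ∧ cm1 r s = ad r s :: (cm1 r s).tail ∧ ad r s ∉ (cm1 r s).tail := by
  decide +kernel

/-- The sum of the inner products with the positive roots. -/
def hs (r : Rt) : ℤ := ∑ s, if Po s then ip r s else 0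

theorem t_hs : ∀ a ∈ [(47 : Rt), 46, 44, 40], ∀ r, lg r = lg a → hs r = hs a → r = a := by decide +kernel

theorem t_rf_ng : ∀ a r, rf a (ng r) = ng (rf a r) := by decide +kernel

theorem t_ne : ∀ r, r ≠ ng r := by decide +kernel

theorem gen_neg : Gen (-w0) := by decide +kernel

theorem t_pos : ∀ r, ¬ Po r → 0 < fw (-w0) r := by decide +kernel

theorem t_sep1 : ∀ r s, (∀ a ∈ [(47 : Rt), 46, 44, 40], ip r a = ip s a) → r = s := by decide +kernel

theorem t_sep2 : ∀ r s, (∀ a ∈ [(44 : Rt), 47, 46, 45], ip r a = ip s a) → r = s := by decide +kernel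

theorem t_sep3 : ∀ r s, (∀ a ∈ [(47 : Rt), 44, 40, 39], ip r a = ip s a) → r = s := by decide +kernel

theorem t_po_ng : ∀ r, Po (ng r) ↔ ¬ Po r := by decide +kernel

end Bas1

end Cfsg.Agent.SF4
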