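import Mathlib
import Cfsg.Agent.SF4.Rt

/-! SF4-R5: root tables, part a -/

set_option autoImplicit false

namespace Cfsg.Agent.SF4.R5

/-- The roots in the commutator commute with both. -/
def L1 (cm : Rt → Rt → List Rt) (r s : Rt) : Prop :=
  s ≠ ng r ∧ ∀ u ∈ cm r s, u ≠ ng r ∧ u ≠ ng s ∧ cm r u = [] ∧ cm s u = []

instance (cm : Rt → Rt → List Rt) (r s : Rt) : Decidable (L1 cm r s) := inferInstanceAs (Decidable (_ ∧ ∀ _ ∈ _, _))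

/-- Commutators have class at most three. -/
def L2 (cm : Rt → Rt → List Rt) : Prop :=
  ∀ r s, ∀ q ∈ cm r s, (L1 cm r q ∧ ∀ u ∈ cm r q, u ∈ cm r s) ∧ L1 cm s q ∧ ∀ u ∈ cm s q, u ∈ cm r s

instance (cm : Rt → Rt → List Rt) : Decidable (L2 cm) :=
  inferInstanceAs (Decidable (∀ _ _, ∀ _ ∈ _, (_ ∧ ∀ _ ∈ _, _) ∧ _ ∧ ∀ _ ∈ _, _))

/-- The same for the roots `r` in a range. -/
def L2' (cm : Rt → Rt → List Rt) (a : ℕ) : Prop :=
  ∀ r : Rt, r.val / 12 = a → ∀ s, ∀ q ∈ cm r s,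
    (L1 cm r q ∧ ∀ u ∈ cm r q, u ∈ cm r s) ∧ L1 cm s q ∧ ∀ u ∈ cm s q, u ∈ cm r s

instance (cm : Rt → Rt → List Rt) (a : ℕ) : Decidable (L2' cm a) :=
  inferInstanceAs (Decidable (∀ _, _ → ∀ _, ∀ _ ∈ _, (_ ∧ ∀ _ ∈ _, _) ∧ _ ∧ ∀ _ ∈ _, _))

theorem l2_of {cm : Rt → Rt → List Rt} (h0 : L2' cm 0) (h1 : L2' cm 1) (h2 : L2' cm 2) (h3 : L2' cm 3) :
    L2 cm := fun r => by
  have : r.val / 12 = 0 ∨ r.val / 12 = 1 ∨ r.val / 12 = 2 ∨ r.val / 12 = 3 := by omega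
  rcases this with h | h | h | h
  exacts [h0 r h, h1 r h, h2 r h, h3 r h]

theorem l2_10 : L2' cm1 0 := by decide +kernel
theorem l2_11 : L2' cm1 1 := by decide +kernel
theorem l2_12 : L2' cm1 2 := by decide +kernel
theorem l2_13 : L2' cm1 3 := by decide +kernel

theorem l2_cm1 : L2 cm1 := l2_of l2_10 l2_11 l2_12 l2_13

end Cfsg.Agent.SF4.R5
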