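import Mathlib
import Cfsg.Agent.SF4.R5a

/-! SF4-R5: root tables, part b -/

set_option autoImplicit false

namespace Cfsg.Agent.SF4.R5

theorem l2_20 : L2' cm2 0 := by decide +kernel
theorem l2_21 : L2' cm2 1 := by decide +kernel
theorem l2_22 : L2' cm2 2 := by decide +kernel
theorem l2_23 : L2' cm2 3 := by decide +kernel

theorem l2_cm2 : L2 cm2 := l2_of l2_20 l2_21 l2_22 l2_23

end Cfsg.Agent.SF4.R5
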