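import Mathlib
import Cfsg.Agent.SF4.Rt

/-! SF4-R5: root tables, part c -/

set_option autoImplicit false

namespace Cfsg.Agent.SF4.R5

theorem d1 : ∀ r s, cm1 r s ≠ [] → (lg r = false ∧ lg s = false ∧ ip r s = -2) ∨
    (lg r = true ∧ lg s = true ∧ ip r s = -4) ∨ (lg r = true ∧ lg s = false ∧ ip r s = -4) ∨
    (lg s = true ∧ lg r = false ∧ ip s r = -4 ∧ ad r s = ad s r) := by decide +kernel

theorem d2 : ∀ r s, s ≠ ng r → cm1 r s = [] → lg s = false → Sb s r ∨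
    (ip s r = 0 ∧ lg r = lg s ∧ md s r ∈ cm2 r s ∧ md s r ≠ ng r ∧ cm1 r (md s r) = []) := by decide +kernel

theorem d3 : ∀ r s, s ≠ ng r → lg r = false → lg s = false → r = s ∨ ip r s = 2 ∨
    (ip r s = 0 ∧ ad r s ∈ cm2 r s) ∨ (ip r s = -2 ∧ ad r s ∈ cm2 r s) := by decide +kernel

theorem d4 : ∀ l s, lg l = true → lg s = false → ip l s = -4 →
    a2 l s ≠ ad l s ∧ Sb s (a2 l s) ∧ ip s (ad l s) = 0 ∧ lg (ad l s) = lg s ∧ md s (ad l s) = a2 l s := by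
  decide +kernel

theorem d5 : ∀ r s, lg r = true → lg s = true → ip r s = -4 →
    lg (br r) = false ∧ lg (br s) = false ∧ ip (br r) (br s) = -2 ∧ br (ad (br r) (br s)) = ad r s := by
  decide +kernel

theorem d6 : ∀ r s, s ≠ ng r → cm1 r s = [] → 0 ≤ ip s r ∧ (r = s ∨ (lg r = false ∧ lg s = false ∧ ip r s = 2) ∨
    (lg (br r) = false ∧ lg (br s) = false ∧ ip (br r) (br s) = 2) ∨ (lg r = lg s ∧ ip r s = 0) ∨
    (lg r = true ∧ lg s = false ∧ (ip r s = 4 ∨ ip r s = 0)) ∨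
    (lg s = true ∧ lg r = false ∧ (ip s r = 4 ∨ ip s r = 0))) := by decide +kernel

theorem d7 : ∀ r s, cm1 r s = [] ∨ cm1 r s = cm2 r s := by decide +kernel

end Cfsg.Agent.SF4.R5
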